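import Groth.Prelude.Def_RDer
import Mathlib.CategoryTheory.ObjectProperty.ContainsZero
import Mathlib.CategoryTheory.ObjectProperty.ClosedUnderIsomorphisms
import Mathlib.CategoryTheory.Abelian.Exact
import Mathlib.CategoryTheory.Abelian.Refinements

/-!
# The comparison `H^n (Ψ K) ⟶ Ψ (H^n K)` for complexes with acyclic terms and cohomology
-/

set_option autoImplicit false
set_option linter.style.haveILetI false
set_option backward.isDefEq.respectTransparency false

universe v₂ v₃ u₂ u₃

open CategoryTheory CategoryTheory.Limits HomologicalComplex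

namespace Groth.Agent.EdgeIso14

variable {B : Type u₂} [Category.{v₂} B] [Abelian B] {C : Type u₃} [Category.{v₃} C] [Abelian C]
  (Ψ : B ⥤ C) [Ψ.Additive] [PreservesFiniteLimits Ψ] (P : ObjectProperty B) [P.IsClosedUnderIsomorphisms]

/-- A class of objects which are acyclic for `Ψ`. -/
structure IsAcyclicClass : Prop where
  epi_map : ∀ ⦃S : ShortComplex B⦄, S.ShortExact → P S.X₁ → Epi (Ψ.map S.g)
  ext : ∀ ⦃S : ShortComplex B⦄, S.ShortExact → P S.X₁ → P S.X₃ → P S.X₂
  quot : ∀ ⦃S : ShortComplex B⦄, S.ShortExact → P S.X₁ → P S.X₂ → P S.X₃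

variable {ι' : Type*} {c : ComplexShape ι'} (K : HomologicalComplex B c)

instance isIso_cyclesComparison (i : ι') : IsIso (RDer.cyclesComparison Ψ K i) := by
  let h := KernelFork.mapIsLimit _ (K.cyclesIsKernel i (c.next i) rfl) Ψ
  let h' := ((Ψ.mapHomologicalComplex c).obj K).cyclesIsKernel i (c.next i) rfl
  let g : Ψ.obj (K.cycles i) ⟶ ((Ψ.mapHomologicalComplex c).obj K).cycles i :=
    ((Ψ.mapHomologicalComplex c).obj K).liftCycles (Ψ.map (K.iCycles i)) (c.next i) rfl (by
      show Ψ.map (K.iCycles i) ≫ Ψ.map (K.d i (c.next i)) = 0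
      rw [← Ψ.map_comp, K.iCycles_d, Ψ.map_zero])
  haveI : Mono (Ψ.map (K.iCycles i)) := inferInstance
  refine ⟨g, ?_, ?_⟩
  · rw [← cancel_mono (((Ψ.mapHomologicalComplex c).obj K).iCycles i), Category.assoc,
      HomologicalComplex.liftCycles_i, RDer.cyclesComparison_i, Category.id_comp]
  · rw [← cancel_mono (Ψ.map (K.iCycles i)), Category.assoc, RDer.cyclesComparison_i,
      HomologicalComplex.liftCycles_i, Category.id_comp]

/-- `X^n ⟶ Z^{n+1} ⟶ H^{n+1} ⟶ 0` is exact. -/
theorem toCycles_exact (K : HomologicalComplex B c) (i j : ι') (hi : c.prev j = i) :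
    (ShortComplex.mk (K.toCycles i j) (K.homologyπ j) (K.toCycles_comp_homologyπ i j)).Exact :=
  ShortComplex.exact_of_g_is_cokernel _ (K.homologyIsCokernel i j hi)

variable {Ψ P}

theorem epi_homologyComparison (i : ι') [Epi (Ψ.map (K.homologyπ i))] :
    Epi (RDer.homologyComparison Ψ K i) :=
  epi_of_epi_fac (RDer.homologyπ_homologyComparison Ψ K i)

theorem mono_homologyComparison (i : ι')
    (h : (ShortComplex.mk (Ψ.map (K.toCycles (c.prev i) i)) (Ψ.map (K.homologyπ i))
      (by rw [← Ψ.map_comp, K.toCycles_comp_homologyπ, Ψ.map_zero])).Exact) :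
    Mono (RDer.homologyComparison Ψ K i) := by
  refine Preadditive.mono_of_cancel_zero _ fun {T} x hx => ?_
  let L := (Ψ.mapHomologicalComplex c).obj K
  obtain ⟨T₁, π₁, hπ₁, z, hz⟩ := surjective_up_to_refinements_of_epi (L.homologyπ i) x
  have h0 : (z ≫ RDer.cyclesComparison Ψ K i) ≫ Ψ.map (K.homologyπ i) = 0 := by
    rw [Category.assoc, ← RDer.homologyπ_homologyComparison, ← Category.assoc, ← hz, Category.assoc, hx,
      comp_zero]
  obtain ⟨T₂, π₂, hπ₂, w, hw⟩ := h.exact_up_to_refinements _ h0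
  have hw' : π₂ ≫ z = w ≫ L.toCycles (c.prev i) i := by
    rw [← cancel_mono (RDer.cyclesComparison Ψ K i), Category.assoc, Category.assoc,
      RDer.toCycles_cyclesComparison]
    exact hw
  rw [← cancel_epi π₁, ← cancel_epi π₂, hz, ← Category.assoc, hw', Category.assoc,
    L.toCycles_comp_homologyπ, comp_zero, comp_zero, comp_zero]

section Nat

variable (K : CochainComplex B ℕ)

/-- The boundaries inside the cycles. -/
noncomputable abbrev bdry (n : ℕ) : B := kernel (K.homologyπ n)

/-- The corestricted differential. -/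
noncomputable def toBdry (n : ℕ) : K.X n ⟶ bdry K (n + 1) :=
  kernel.lift _ (K.toCycles n (n + 1)) (K.toCycles_comp_homologyπ n (n + 1))

theorem iCycles_toBdry (n : ℕ) : K.iCycles n ≫ toBdry K n = 0 := by
  rw [← cancel_mono (kernel.ι (K.homologyπ (n + 1))), Category.assoc, toBdry, kernel.lift_ι, zero_comp,
    ← cancel_mono (K.iCycles (n + 1)), Category.assoc, K.toCycles_i, zero_comp]
  exact K.iCycles_d n (n + 1)

theorem epi_toBdry (n : ℕ) : Epi (toBdry K n) :=
  (toCycles_exact K n (n + 1) (CochainComplex.prev_nat_succ n)).epi_kernelLift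

theorem shortExact_cycles (n : ℕ) :
    (ShortComplex.mk (K.iCycles n) (toBdry K n) (iCycles_toBdry K n)).ShortExact where
  exact := ShortComplex.exact_of_f_is_kernel _ (KernelFork.IsLimit.ofι' (K.iCycles n) (iCycles_toBdry K n)
    fun {A} k hk => ⟨K.liftCycles k (n + 1) (CochainComplex.next ℕ n) (by
      have h := congrArg (· ≫ kernel.ι (K.homologyπ (n + 1)) ≫ K.iCycles (n + 1)) hk
      simp only [Category.assoc, zero_comp] at h
      rw [toBdry, kernel.lift_ι_assoc, K.toCycles_i] at h
      exact h), K.liftCycles_i _ _ _ _⟩)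
  mono_f := inferInstanceAs (Mono (K.iCycles n))
  epi_g := epi_toBdry K n

theorem shortExact_bdry (n : ℕ) :
    (ShortComplex.mk (kernel.ι (K.homologyπ n)) (K.homologyπ n) (kernel.condition _)).ShortExact where
  exact := ShortComplex.exact_kernel _
  mono_f := inferInstanceAs (Mono (kernel.ι (K.homologyπ n)))
  epi_g := inferInstanceAs (Epi (K.homologyπ n))

variable {K}
variable (hP : IsAcyclicClass Ψ P) (hX : ∀ n, P (K.X n)) (hH : ∀ n, P (K.homology n))

include hP hX hH

theorem prop_cycles : ∀ n, P (K.cycles n)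
  | 0 => P.prop_of_iso (CochainComplex.isoHomologyπ₀ K).symm (hH 0)
  | n + 1 => hP.ext (shortExact_bdry K (n + 1))
      (hP.quot (shortExact_cycles K n) (prop_cycles n) (hX n)) (hH (n + 1))

theorem isIso_homologyComparison (n : ℕ) : IsIso (RDer.homologyComparison Ψ K n) := by
  cases n with
  | zero =>
    haveI : IsIso (K.homologyπ 0) := (CochainComplex.isoHomologyπ₀ K).isIso_hom
    haveI : IsIso (((Ψ.mapHomologicalComplex (ComplexShape.up ℕ)).obj K).homologyπ 0) :=
      (CochainComplex.isoHomologyπ₀ ((Ψ.mapHomologicalComplex (ComplexShape.up ℕ)).obj K)).isIso_hom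
    exact IsIso.of_isIso_fac_left (RDer.homologyπ_homologyComparison Ψ K 0)
  | succ n =>
    have hb : P (bdry K (n + 1)) := hP.quot (shortExact_cycles K n) (prop_cycles hP hX hH n) (hX n)
    haveI : Epi (Ψ.map (K.homologyπ (n + 1))) := hP.epi_map (shortExact_bdry K (n + 1)) hb
    haveI : Epi (Ψ.map (toBdry K n)) := hP.epi_map (shortExact_cycles K n) (prop_cycles hP hX hH n)
    haveI : Epi (RDer.homologyComparison Ψ K (n + 1)) := epi_homologyComparison K (n + 1)
    haveI : Mono (RDer.homologyComparison Ψ K (n + 1)) := by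
      refine mono_homologyComparison K (n + 1) ?_
      have h1 : ((ShortComplex.mk (kernel.ι (K.homologyπ (n + 1))) (K.homologyπ (n + 1))
          (kernel.condition _)).map Ψ).Exact :=
        ((ShortComplex.exact_kernel _).map_of_mono_of_preservesKernel Ψ inferInstance inferInstance)
      rw [ShortComplex.exact_iff_exact_up_to_refinements] at h1 ⊢
      intro T x hx
      obtain ⟨T₁, π₁, hπ₁, y, hy⟩ := h1 x hx
      obtain ⟨T₂, π₂, hπ₂, w, hw⟩ := surjective_up_to_refinements_of_epi (Ψ.map (toBdry K n)) y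
      refine ⟨T₂, π₂ ≫ π₁, inferInstance, w ≫ Ψ.map (eqToHom (congrArg K.X (CochainComplex.prev_nat_succ n).symm)), ?_⟩
      have hb' : toBdry K n ≫ kernel.ι (K.homologyπ (n + 1)) =
          eqToHom (congrArg K.X (CochainComplex.prev_nat_succ n).symm) ≫
            K.toCycles ((ComplexShape.up ℕ).prev (n + 1)) (n + 1) := by
        rw [toBdry, kernel.lift_ι]
        have : ∀ (i : ℕ) (h : n = i), K.toCycles n (n + 1) =
            eqToHom (congrArg K.X h) ≫ K.toCycles i (n + 1) := by rintro i rfl; simp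
        exact this _ (CochainComplex.prev_nat_succ n).symm
      refine (Category.assoc π₂ π₁ x).trans ((congrArg (π₂ ≫ ·) hy).trans ?_)
      refine (Category.assoc _ _ _).symm.trans ((congrArg (· ≫ Ψ.map (kernel.ι (K.homologyπ (n + 1)))) hw).trans ?_)
      refine (Category.assoc _ _ _).trans (Eq.trans ?_ (Category.assoc _ _ _).symm)
      exact congrArg (w ≫ ·) ((Ψ.map_comp _ _).symm.trans ((congrArg Ψ.map hb').trans (Ψ.map_comp _ _)))
    exact isIso_of_mono_of_epi _

end Nat

end Groth.Agent.EdgeIso14
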