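import Groth.Agent.EdgeIso14.Abstract
import Groth.Agent.Coherent.RpushLeray
import Groth.Agent.Coherent.HigherQcoh
import Groth.Agent.Coherent.Existence.SysKernel
import Groth.Agent.Coherent.RpushComp
import Groth.Prelude.Def_CohBC2

/-!
# The edge map `R^p (f ≫ g)_* ⟶ g_* R^p f_*` for an affine `g`
-/

set_option autoImplicit false
set_option linter.style.haveILetI false
set_option backward.isDefEq.respectTransparency false

universe u

open CategoryTheory CategoryTheory.Limits AlgebraicGeometry Opposite TopologicalSpace Abelian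
open Groth.Agent.Coherent

namespace Groth.Agent.EdgeIso14

variable {X Y Z : Scheme.{u}}

/-- No higher cohomology over the preimages of affine opens. -/
def acyc (g : Y ⟶ Z) : ObjectProperty Y.Modules := fun N =>
  ∀ V : Z.Opens, IsAffineOpen V → ∀ q : ℕ, Subsingleton (Sheaf.H' (Coh.toAb N) (q + 1) (g ⁻¹ᵁ V))

instance (g : Y ⟶ Z) : (acyc g).IsClosedUnderIsomorphisms where
  of_iso {N N'} e h V hV q := by
    haveI := h V hV q
    let e' := (toAbFunctor Y).mapIso e
    refine subsingleton_of_forall_eq 0 fun x => ?_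
    have hx : x.comp (Ext.mk₀ e'.inv) (add_zero (q + 1)) = 0 := @Subsingleton.elim _ (h V hV q) _ _
    have h2 := congrArg (fun y => Ext.comp y (Ext.mk₀ e'.hom) (add_zero (q + 1))) hx
    simp only [Ext.comp_assoc_of_third_deg_zero, Ext.mk₀_comp_mk₀, Iso.inv_hom_id, Ext.comp_mk₀_id,
      Ext.zero_comp] at h2
    exact h2

theorem isAcyclicClass_acyc (g : Y ⟶ Z) : IsAcyclicClass (Scheme.Modules.pushforward g) (acyc g) where
  epi_map S hS h1 := by
    refine Coherent.Existence.epi_of_affine_surjective _ fun V hV s => ?_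
    have hS' := hS.map_of_exact (toAbFunctor Y)
    let φ : Ext (freeSh (X := Y.toTopCat) (g ⁻¹ᵁ V)) (Coh.toAb S.X₃) 0 :=
      Ext.mk₀ ((freeShEquiv (X := Y.toTopCat) (g ⁻¹ᵁ V) (Coh.toAb S.X₃)).symm s)
    obtain ⟨x₂, hx₂⟩ := Ext.covariant_sequence_exact₃ _ hS' φ (zero_add 1)
      (@Subsingleton.elim _ (h1 V hV 0) _ _)
    obtain ⟨ψ, rfl⟩ := (Ext.mk₀_bijective _ _).2 x₂
    erw [Ext.mk₀_comp_mk₀] at hx₂
    refine ⟨freeShEquiv (X := Y.toTopCat) (g ⁻¹ᵁ V) (Coh.toAb S.X₂) ψ, ?_⟩
    have h3 := congrArg (freeShEquiv (X := Y.toTopCat) (g ⁻¹ᵁ V) (Coh.toAb S.X₃)) ((Ext.mk₀_bijective _ _).1 hx₂)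
    exact (freeShEquiv_comp (X := Y.toTopCat) (g ⁻¹ᵁ V) ((toAbFunctor Y).map S.g) ψ).symm.trans
      (h3.trans (AddEquiv.apply_symm_apply _ _))
  ext S hS h1 h3 V hV q := by
    have hS' := hS.map_of_exact (toAbFunctor Y)
    refine subsingleton_of_forall_eq 0 fun x => ?_
    obtain ⟨y, rfl⟩ := Ext.covariant_sequence_exact₂ _ hS' x (@Subsingleton.elim _ (h3 V hV q) _ _)
    rw [show y = 0 from @Subsingleton.elim _ (h1 V hV q) _ _, Ext.zero_comp]
  quot S hS h1 h2 V hV q := by
    have hS' := hS.map_of_exact (toAbFunctor Y)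
    refine subsingleton_of_forall_eq 0 fun x => ?_
    obtain ⟨y, rfl⟩ := Ext.covariant_sequence_exact₃ _ hS' x (rfl : q + 1 + 1 = q + 2)
      (@Subsingleton.elim _ (h1 V hV (q + 1)) _ _)
    rw [show y = 0 from @Subsingleton.elim _ (h2 V hV q) _ _, Ext.zero_comp]

theorem acyc_push_injective (f : X ⟶ Y) (g : Y ⟶ Z) (Q : X.Modules) [Injective Q] :
    acyc g ((Scheme.Modules.pushforward f).obj Q) := fun V _ q => by
  haveI := isFlasque_toAb_of_injective Q
  haveI := isFlasque_pushAb f (Coh.toAb Q)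
  exact subsingleton_H'_of_isFlasque (X := Y.toTopCat) (h := isFlasque_pushAb f (Coh.toAb Q))
    ((Coh.pushAb f).obj (Coh.toAb Q)) (g ⁻¹ᵁ V) q

theorem acyc_of_isQCoh (g : Y ⟶ Z) [IsAffineHom g] (N : Y.Modules) [Coh.IsQCoh N] : acyc g N :=
  fun _ hV q => subsingleton_H'_qcoh N (hV.preimage g) q

theorem isIso_lerayEdgeOut (f : X ⟶ Y) (g : Y ⟶ Z) [QuasiCompact f] [QuasiSeparated f] [IsAffineHom g]
    [HasInjectiveResolutions X.Modules] (M : X.Modules) [Coh.IsQCoh M] (p : ℕ) :
    IsIso (CohBC.lerayEdgeOut f g p M) := by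
  let I := injectiveResolution M
  have hX : ∀ n, acyc g ((Scheme.Modules.pushforward f).obj (I.cocomplex.X n)) := fun n => by
    haveI := I.injective n
    exact acyc_push_injective f g (I.cocomplex.X n)
  have hH : ∀ n, acyc g ((((Scheme.Modules.pushforward f).mapHomologicalComplex (ComplexShape.up ℕ)).obj I.cocomplex).homology n) :=
    fun n => by
      haveI : Coh.IsQCoh (((Scheme.Modules.pushforward f).rightDerived n).obj M) := isQCoh_rpush f M n
      exact (acyc g).prop_of_iso (I.isoRightDerivedObj (Scheme.Modules.pushforward f) n)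
        (acyc_of_isQCoh g (((Scheme.Modules.pushforward f).rightDerived n).obj M))
  haveI hK := isIso_homologyComparison
    (K := ((Scheme.Modules.pushforward f).mapHomologicalComplex (ComplexShape.up ℕ)).obj I.cocomplex)
    (isAcyclicClass_acyc g) hX hH p
  haveI : IsIso (RDer.edgeOut (Scheme.Modules.pushforward f) (Scheme.Modules.pushforward g) p M) := by
    unfold RDer.edgeOut
    exact IsIso.comp_isIso' (Iso.isIso_hom _) (IsIso.comp_isIso' hK (Functor.map_isIso _ _))
  unfold CohBC.lerayEdgeOut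
  infer_instance

end Groth.Agent.EdgeIso14
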